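import Mathlib
import Groth.Agent.DVRDom.Basic

/-!
# Valuative criteria with discrete valuation rings
-/

set_option autoImplicit false
set_option linter.style.haveILetI false
universe u

open CategoryTheory CategoryTheory.Limits AlgebraicGeometry IsLocalRing

namespace Groth.Agent.DVRCrit

section algebra

variable {A : Type u} [CommRing A] [IsNoetherianRing A] {L : Type u} [Field L]

/-- A Noetherian local ring mapping nontrivially to a field finitely generated over the image is
dominated by a discrete valuation ring. -/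
lemma exists_dvr_dominating' [IsLocalRing A] (φ : A →+* L) {G : Set L} (hG : G.Finite)
    (hgen : Subfield.closure (Set.range φ ∪ G) = ⊤) (hne : ∃ a ∈ maximalIdeal A, φ a ≠ 0) :
    ∃ R : ValuationSubring L, IsDiscreteValuationRing R ∧ (∀ a : A, φ a ∈ R) ∧
      ∀ a ∈ maximalIdeal A, R.valuation (φ a) < 1 := by
  classical
  let T := φ.range
  haveI : IsLocalRing T := IsLocalRing.of_surjective' φ.rangeRestrict φ.rangeRestrict_surjective
  haveI : IsNoetherianRing T := isNoetherianRing_of_surjective _ _ _ φ.rangeRestrict_surjective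
  have hmax : ∀ a ∈ maximalIdeal A, φ.rangeRestrict a ∈ maximalIdeal T := by
    intro a ha hu
    obtain ⟨b, hb⟩ := φ.rangeRestrict_surjective hu.unit⁻¹.val
    have h1 : φ.rangeRestrict (a * b) = 1 := by rw [map_mul, hb]; exact hu.mul_val_inv
    have h2 : 1 - a * b ∈ RingHom.ker φ.rangeRestrict := by rw [RingHom.mem_ker, map_sub, h1, map_one, sub_self]
    have h3 := IsLocalRing.le_maximalIdeal (RingHom.ker_ne_top φ.rangeRestrict) h2
    exact (maximalIdeal.isMaximal A).ne_top ((Ideal.eq_top_iff_one _).mpr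
      (by simpa using add_mem h3 (Ideal.mul_mem_right b _ ha)))
  have hF : ¬ IsField T := by
    obtain ⟨a, ha, ha0⟩ := hne
    intro hF
    have := hmax a ha
    rw [IsLocalRing.isField_iff_maximalIdeal_eq.mp hF, Ideal.mem_bot] at this
    exact ha0 (congrArg Subtype.val this)
  letI : Algebra (FractionRing T) L := FractionRing.liftAlgebra T L
  haveI : IsScalarTower T (FractionRing T) L := FractionRing.isScalarTower_liftAlgebra T L
  have hfg : (⊤ : IntermediateField (FractionRing T) L).FG := by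
    refine ⟨hG.toFinset, ?_⟩
    rw [Set.Finite.coe_toFinset, eq_top_iff]
    intro x _
    have hx : x ∈ Subfield.closure (Set.range φ ∪ G) := hgen ▸ trivial
    refine Subfield.closure_le (t := (IntermediateField.adjoin (FractionRing T) G).toSubfield) |>.mpr
      ?_ hx
    rintro y (⟨a, rfl⟩ | hy)
    · have : φ a = algebraMap (FractionRing T) L (algebraMap T (FractionRing T) (φ.rangeRestrict a)) := by
        rw [← IsScalarTower.algebraMap_apply]; rfl
      rw [this]
      exact IntermediateField.algebraMap_mem _ _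
    · exact IntermediateField.subset_adjoin _ _ hy
  obtain ⟨R, hR, hTR, hdom⟩ :=
    DVRDom.exists_dvr_dominating T hF (FractionRing T) L hfg
  exact ⟨R, hR, fun a ↦ hTR (φ.rangeRestrict a), fun a ha ↦ hdom _ (hmax a ha)⟩

/-- If finitely many elements lie outside a valuation ring over a Noetherian ring, they lie outside
a discrete valuation ring over it. -/
lemma exists_dvr_avoiding (φ : A →+* L) {G : Set L} (hG : G.Finite)
    (hgen : Subfield.closure (Set.range φ ∪ G) = ⊤) (V : ValuationSubring L) (hV : ∀ a, φ a ∈ V)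
    (Z : Finset L) (hne : Z.Nonempty) (hZ : ∀ z ∈ Z, z ∉ V) :
    ∃ R : ValuationSubring L, IsDiscreteValuationRing R ∧ (∀ a, φ a ∈ R) ∧ ∀ z ∈ Z, z ∉ R := by
  classical
  letI := φ.toAlgebra
  let C : Subalgebra A L := Algebra.adjoin A ((Z.image fun z ↦ z⁻¹ : Finset L) : Set L)
  haveI : IsNoetherianRing C := by
    haveI : Algebra.FiniteType A C := (Subalgebra.fg_iff_finiteType _).mp ⟨_, rfl⟩
    exact Algebra.FiniteType.isNoetherianRing A C
  have hinv : ∀ z ∈ Z, z⁻¹ ∈ V := fun z hz ↦ (V.mem_or_inv_mem z).resolve_left (hZ z hz)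
  have hCV : ∀ c : C, (c : L) ∈ V := fun c ↦ Algebra.adjoin_induction
    (p := fun x _ ↦ x ∈ V) (fun x hx ↦ by
      obtain ⟨z, hz, rfl⟩ := Finset.mem_image.mp hx
      exact hinv z hz) hV (fun _ _ _ _ ↦ add_mem) (fun _ _ _ _ ↦ mul_mem) c.2
  let toV : C →+* V := C.val.toRingHom.codRestrict V.toSubring hCV
  let q : Ideal C := (maximalIdeal V).comap toV
  haveI : q.IsPrime := inferInstanceAs ((maximalIdeal V).comap toV).IsPrime
  have hunit : ∀ y : q.primeCompl, IsUnit (C.val.toRingHom y.1) := fun y ↦ by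
    refine isUnit_iff_ne_zero.mpr fun h0 ↦ y.2 ?_
    have : toV y.1 = 0 := Subtype.ext h0
    show toV y.1 ∈ maximalIdeal V
    rw [this]; exact zero_mem _
  let ψ : Localization.AtPrime q →+* L := IsLocalization.lift hunit
  haveI : IsNoetherianRing (Localization.AtPrime q) :=
    IsLocalization.isNoetherianRing q.primeCompl _ ‹_›
  have hψ : ∀ c : C, ψ (algebraMap C _ c) = (c : L) := fun c ↦ IsLocalization.lift_eq hunit c
  have hzC : ∀ z ∈ Z, z⁻¹ ∈ C := fun z hz ↦
    Algebra.subset_adjoin (Finset.mem_image.mpr ⟨z, hz, rfl⟩)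
  have hz0 : ∀ z ∈ Z, z ≠ 0 := fun z hz h ↦ hZ z hz (h ▸ zero_mem V)
  have hzq : ∀ (z) (hz : z ∈ Z), algebraMap C (Localization.AtPrime q) ⟨z⁻¹, hzC z hz⟩ ∈
      maximalIdeal (Localization.AtPrime q) := by
    intro z hz
    rw [IsLocalization.AtPrime.to_map_mem_maximal_iff (Localization.AtPrime q) q]
    show toV ⟨z⁻¹, hzC z hz⟩ ∈ maximalIdeal V
    intro hu
    refine hZ z hz ?_
    obtain ⟨w, hw⟩ := isUnit_iff_exists_inv.mp hu
    have : z⁻¹ * (w : L) = 1 := congrArg Subtype.val hw
    rw [← inv_inv z, inv_eq_of_mul_eq_one_right this]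
    exact w.2
  obtain ⟨R, hR, hAR, hdom⟩ := exists_dvr_dominating' ψ hG (by
      rw [eq_top_iff, ← hgen]
      refine Subfield.closure_mono (Set.union_subset_union_left _ ?_)
      rintro _ ⟨a, rfl⟩
      exact ⟨algebraMap C _ (algebraMap A C a), hψ _⟩)
    (by
      obtain ⟨z, hz⟩ := hne
      exact ⟨_, hzq z hz, by rw [hψ]; exact inv_ne_zero (hz0 z hz)⟩)
  refine ⟨R, hR, fun a ↦ ?_, fun z hz hzR ↦ ?_⟩
  · have := hAR (algebraMap C _ (algebraMap A C a))
    rw [hψ] at this
    exact this
  · have h1 := hdom _ (hzq z hz)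
    rw [hψ] at h1
    have h2 := (R.valuation_le_one_iff z).mpr hzR
    have h3 : R.valuation z⁻¹ * R.valuation z = 1 := by
      rw [← map_mul, inv_mul_cancel₀ (hz0 z hz), map_one]
    exact lt_irrefl _ (h3 ▸ (mul_le_of_le_one_right' h2).trans_lt h1)

end algebra

variable {X Y : Scheme.{u}}

lemma top_le_preimage {Z : Scheme.{u}} (i : Z ⟶ X) {U : X.Opens} (h : ∀ p, i p ∈ U) : ⊤ ≤ i ⁻¹ᵁ U :=
  fun p _ ↦ h p

/-- Evaluation of sections along a morphism from `Spec L` landing in an open. -/
noncomputable def ev {L : CommRingCat.{u}} (i : Spec L ⟶ X) (U : X.Opens) (h : ∀ p, i p ∈ U) :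
    Γ(X, U) ⟶ L :=
  i.appLE U ⊤ (top_le_preimage i h) ≫ (Scheme.ΓSpecIso L).hom

lemma ev_comp {L L' : CommRingCat.{u}} (φ : L ⟶ L') (l : Spec L ⟶ X) (U : X.Opens)
    (h : ∀ p, l p ∈ U) (h' : ∀ p, (Spec.map φ ≫ l) p ∈ U := fun p ↦ h (Spec.map φ p)) :
    ev (Spec.map φ ≫ l) U h' = ev l U h ≫ φ := by
  unfold ev
  rw [Category.assoc, ← Scheme.ΓSpecIso_naturality φ, ← Category.assoc]
  congr 1

lemma ev_congr {L : CommRingCat.{u}} {i i' : Spec L ⟶ X} (e : i = i') (U : X.Opens)
    (h : ∀ p, i p ∈ U) (h' : ∀ p, i' p ∈ U) : ev i U h = ev i' U h' := by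
  subst e; rfl

lemma ev_comp_right {L : CommRingCat.{u}} (f : X ⟶ Y) (i : Spec L ⟶ X) {O : Y.Opens}
    {U : X.Opens} (hU : U ≤ f ⁻¹ᵁ O) (h : ∀ p, i p ∈ U)
    (h' : ∀ p, (i ≫ f) p ∈ O := fun p ↦ hU (h p)) :
    ev (i ≫ f) O h' = f.appLE O U hU ≫ ev i U h := by
  unfold ev
  rw [← Category.assoc, Scheme.Hom.appLE_comp_appLE]

lemma eq_map_ev_fromSpec {L : CommRingCat.{u}} (i : Spec L ⟶ X) {U : X.Opens}
    (hU : IsAffineOpen U) (h : ∀ p, i p ∈ U) :
    Spec.map (ev i U h) ≫ hU.fromSpec = i := by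
  unfold ev
  rw [Spec.map_comp, Category.assoc,
    hU.SpecMap_appLE_fromSpec i (isAffineOpen_top (Spec L)) (top_le_preimage i h),
    IsAffineOpen.fromSpec_top, ← Category.assoc, Scheme.isoSpec_Spec_inv, ← Spec.map_comp,
    Iso.inv_hom_id, Spec.map_id, Category.id_comp]

lemma mem_of_map_fromSpec {L : CommRingCat.{u}} {U : X.Opens} (hU : IsAffineOpen U)
    (φ : Γ(X, U) ⟶ L) (p) : (Spec.map φ ≫ hU.fromSpec) p ∈ U := by
  rw [← SetLike.mem_coe, ← hU.range_fromSpec]
  exact ⟨Spec.map φ p, rfl⟩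

lemma ev_map_fromSpec {L : CommRingCat.{u}} {U : X.Opens} (hU : IsAffineOpen U)
    (φ : Γ(X, U) ⟶ L) :
    ev (Spec.map φ ≫ hU.fromSpec) U (mem_of_map_fromSpec hU φ) = φ :=
  Spec.map_injective ((cancel_mono hU.fromSpec).mp (eq_map_ev_fromSpec _ hU _))

lemma ev_eq_of_eq {L : CommRingCat.{u}} {U : X.Opens} (hU : IsAffineOpen U) {i : Spec L ⟶ X}
    (h : ∀ p, i p ∈ U) {φ : Γ(X, U) ⟶ L} (e : Spec.map φ ≫ hU.fromSpec = i) : ev i U h = φ := by
  subst e; exact ev_map_fromSpec hU φ

lemma forall_mem_of_closedPoint {R : CommRingCat.{u}} [IsLocalRing R] (l : Spec R ⟶ X)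
    {U : X.Opens} (h : l (closedPoint R) ∈ U) (p) : l p ∈ U :=
  ((IsLocalRing.specializes_closedPoint p).map l.continuous).mem_open U.2 h

/-- `Spec κ(x) → X` evaluates sections at `x`. -/
lemma ev_fromSpecResidueField {U : X.Opens} (hU : IsAffineOpen U) (x : X) (hx : x ∈ U)
    (h : ∀ p, X.fromSpecResidueField x p ∈ U) :
    ev (X.fromSpecResidueField x) U h = X.presheaf.germ U x hx ≫ X.residue x := by
  refine ev_eq_of_eq hU h ?_
  rw [Spec.map_comp, Category.assoc, Scheme.fromSpecResidueField, ← hU.fromSpecStalk_eq_fromSpecStalk hx]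
  rfl

/-- `Spec O_{X,x} → X` evaluates sections at `x`. -/
lemma ev_fromSpecStalk {U : X.Opens} (hU : IsAffineOpen U) (x : X) (hx : x ∈ U)
    (h : ∀ p, X.fromSpecStalk x p ∈ U) :
    ev (X.fromSpecStalk x) U h = X.presheaf.germ U x hx := by
  refine ev_eq_of_eq hU h ?_
  rw [← hU.fromSpecStalk_eq_fromSpecStalk hx]
  rfl

/-- The evaluation at a morphism `l` whose restriction to the generic point is `i`. -/
lemma ev_mem_of_lift {L : Type u} [Field L] (R : ValuationSubring L)
    (i : Spec (CommRingCat.of L) ⟶ X) (l : Spec (CommRingCat.of R) ⟶ X)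
    (hl : Spec.map (CommRingCat.ofHom R.subtype) ≫ l = i) {U : X.Opens}
    (hc : l (closedPoint R) ∈ U) :
    ∃ h : ∀ p, i p ∈ U, ∀ b, (ev i U h).hom b ∈ R := by
  have hall := forall_mem_of_closedPoint (R := CommRingCat.of R) l hc
  subst hl
  refine ⟨fun p ↦ hall _, fun b ↦ ?_⟩
  rw [ev_comp _ l U hall]
  exact ((ev l U hall).hom b).2

/-- A lift of `i` to a valuation ring from its values on an affine open. -/
lemma exists_lift_of_ev_mem {L : Type u} [Field L] (R : ValuationSubring L)
    (i : Spec (CommRingCat.of L) ⟶ X) {U : X.Opens} (hU : IsAffineOpen U)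
    (h : ∀ p, i p ∈ U) (hmem : ∀ b, (ev i U h).hom b ∈ R) :
    ∃ l : Spec (CommRingCat.of R) ⟶ X, Spec.map (CommRingCat.ofHom R.subtype) ≫ l = i ∧
      ∀ p, l p ∈ U := by
  refine ⟨Spec.map (CommRingCat.ofHom ((ev i U h).hom.codRestrict R.toSubring hmem)) ≫
    hU.fromSpec, ?_, mem_of_map_fromSpec hU _⟩
  rw [← Category.assoc, ← Spec.map_comp]
  exact eq_map_ev_fromSpec i hU h

variable (f : X ⟶ Y) [LocallyOfFiniteType f] [QuasiCompact f] [IsLocallyNoetherian Y]

/-- The key lemma: centres of discrete valuation rings give centres of all valuation rings. -/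
theorem exists_center_of_forall_dvr {L : Type u} [Field L] (i : Spec (CommRingCat.of L) ⟶ X)
    (hgen : ∀ (U : X.Opens), IsAffineOpen U → ∀ h : (∀ p, i p ∈ U),
      Subfield.closure (Set.range (ev i U h).hom) = ⊤)
    {O : Y.Opens} (hO : IsAffineOpen O) (hiO : ∀ p, (i ≫ f) p ∈ O)
    (V : ValuationSubring L) (hV : ∀ a, (ev (i ≫ f) O hiO).hom a ∈ V)
    (H : ∀ R : ValuationSubring L, IsDiscreteValuationRing R →
      (∀ a, (ev (i ≫ f) O hiO).hom a ∈ R) →
      ∃ l : Spec (CommRingCat.of R) ⟶ X, Spec.map (CommRingCat.ofHom R.subtype) ≫ l = i ∧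
        f (l (closedPoint R)) ∈ O) :
    ∃ (U : X.Opens) (_ : IsAffineOpen U) (_ : U ≤ f ⁻¹ᵁ O) (h : ∀ p, i p ∈ U),
      ∀ b, (ev i U h).hom b ∈ V := by
  classical
  obtain ⟨s, hs, hsW⟩ := isCompact_iff_finite_and_eq_biUnion_affineOpens.mp
    (f.isCompact_preimage hO.isCompact : IsCompact ((f ⁻¹ᵁ O : X.Opens) : Set X))
  by_contra! hcon
  have hle : ∀ U ∈ s, (U : X.affineOpens).1 ≤ f ⁻¹ᵁ O := fun U hU x hx ↦ by
    rw [← SetLike.mem_coe, hsW, TopologicalSpace.Opens.coe_iSup]
    simp only [TopologicalSpace.Opens.coe_iSup, Set.mem_iUnion]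
    exact ⟨U, hU, hx⟩
  let t := hs.toFinset.filter fun U : X.affineOpens ↦ ∀ p, i p ∈ U.1
  have ht : ∀ U : t, ∃ b, (ev i U.1.1 ((Finset.mem_filter.mp U.2).2)).hom b ∉ V := fun U ↦
    hcon U.1.1 U.1.2 (hle _ (hs.mem_toFinset.mp (Finset.mem_filter.mp U.2).1)) _
  choose b hb using ht
  let Z : Finset L := Finset.univ.image fun U : t ↦
    (ev i U.1.1 ((Finset.mem_filter.mp U.2).2)).hom (b U)
  -- a point of `W` lies in some member of the cover
  have hcover : ∀ z, f z ∈ O → ∃ U ∈ s, z ∈ (U : X.affineOpens).1 := fun z hz ↦ by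
    have : z ∈ ((f ⁻¹ᵁ O : X.Opens) : Set X) := hz
    simpa [hsW] using this
  obtain ⟨U₀, hU₀, hU₀i⟩ := hcover (i default) (hiO default)
  have hall₀ : ∀ p, i p ∈ U₀.1 := fun p ↦ by rwa [Subsingleton.elim p default]
  have hU₀t : U₀ ∈ t := Finset.mem_filter.mpr ⟨hs.mem_toFinset.mpr hU₀, hall₀⟩
  have hft : (f.appLE O U₀.1 (hle _ hU₀)).hom.FiniteType :=
    f.finiteType_appLE hO U₀.2 _
  algebraize [(f.appLE O U₀.1 (hle _ hU₀)).hom]
  obtain ⟨G, hG⟩ := (inferInstance : Algebra.FiniteType Γ(Y, O) Γ(X, U₀.1)).out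
  haveI := IsLocallyNoetherian.component_noetherian (X := Y) ⟨O, hO⟩
  obtain ⟨R, hR, hAR, hZR⟩ := exists_dvr_avoiding (ev (i ≫ f) O hiO).hom
    (G := (ev i U₀.1 hall₀).hom '' G) (G.finite_toSet.image _) (by
      rw [eq_top_iff, ← hgen U₀.1 U₀.2 hall₀]
      refine Subfield.closure_le.mpr ?_
      rintro _ ⟨x, rfl⟩
      have hx : x ∈ Algebra.adjoin Γ(Y, O) (G : Set Γ(X, U₀.1)) := hG ▸ trivial
      induction hx using Algebra.adjoin_induction with
      | mem g hg => exact Subfield.subset_closure (.inr ⟨g, hg, rfl⟩)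
      | algebraMap a =>
        refine Subfield.subset_closure (.inl ⟨a, ?_⟩)
        rw [ev_comp_right f i (hle _ hU₀) hall₀]
        rfl
      | add x y _ _ hx hy => rw [map_add]; exact add_mem hx hy
      | mul x y _ _ hx hy => rw [map_mul]; exact mul_mem hx hy)
    V hV Z ⟨_, Finset.mem_image.mpr ⟨⟨U₀, hU₀t⟩, Finset.mem_univ _, rfl⟩⟩ (by
      intro z hz
      obtain ⟨U, -, rfl⟩ := Finset.mem_image.mp hz
      exact hb U)
  obtain ⟨l, hl, hlO⟩ := H R hR hAR
  obtain ⟨U, hU, hcU⟩ := hcover _ hlO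
  obtain ⟨hiU, hmem⟩ := ev_mem_of_lift R i l hl hcU
  exact hZR _ (Finset.mem_image.mpr ⟨⟨U, Finset.mem_filter.mpr ⟨hs.mem_toFinset.mpr hU, hiU⟩⟩,
    Finset.mem_univ _, rfl⟩) (hmem _)

omit [LocallyOfFiniteType f] [QuasiCompact f] [IsLocallyNoetherian Y] in
/-- The existence part of the valuative criterion, in terms of centres on residue fields. -/
theorem existence_of_centers
    (H : ∀ (x : X) (O : Y.Opens), IsAffineOpen O →
      ∀ (hx : ∀ p, (X.fromSpecResidueField x ≫ f) p ∈ O) (V : ValuationSubring (X.residueField x)),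
      (∀ a, (ev (X.fromSpecResidueField x ≫ f) O hx).hom a ∈ V) →
      ∃ (U : X.Opens) (_ : IsAffineOpen U) (_ : U ≤ f ⁻¹ᵁ O) (h : ∀ p, X.fromSpecResidueField x p ∈ U),
        ∀ b, (ev (X.fromSpecResidueField x) U h).hom b ∈ V) :
    ValuativeCriterion.Existence f := by
  rintro ⟨R, K, i₁, i₂, ⟨w⟩⟩
  obtain ⟨⟨x, e⟩, rfl⟩ := (Scheme.SpecToEquivOfField K X).symm.surjective i₁
  change (Spec.map e ≫ X.fromSpecResidueField x) ≫ f = _ at w
  obtain ⟨O, hO, hyO, -⟩ := exists_isAffineOpen_mem_and_subset (X := Y) (x := i₂ (closedPoint R))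
    (U := ⊤) trivial
  have hall := forall_mem_of_closedPoint (R := CommRingCat.of R) i₂ hyO
  have hx : ∀ p, (X.fromSpecResidueField x ≫ f) p ∈ O := fun p ↦ by
    have h1 : ((Spec.map e ≫ X.fromSpecResidueField x) ≫ f) (closedPoint K) ∈ O := by
      rw [w]; exact hall _
    rw [Category.assoc] at h1
    rwa [Subsingleton.elim p (Spec.map e (closedPoint K))]
  let VK : ValuationSubring K := (ValuationRing.valuation R K).valuationSubring
  have hVK : ∀ z, z ∈ VK ↔ ∃ r : R, algebraMap R K r = z := fun z ↦ ValuationRing.mem_integer_iff R K z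
  have hsq : ∀ a, e.hom ((ev (X.fromSpecResidueField x ≫ f) O hx).hom a) =
      algebraMap R K ((ev i₂ O hall).hom a) := fun a ↦ by
    have h := (ev_comp e _ O hx).symm.trans ((ev_congr (by rw [← Category.assoc, w]) O _
      fun p ↦ hall (Spec.map (CommRingCat.ofHom (algebraMap R K)) p)).trans
      (ev_comp (CommRingCat.ofHom (algebraMap R K)) i₂ O hall))
    exact ConcreteCategory.congr_hom h a
  obtain ⟨U, hU, hUO, hxU, hmem⟩ := H x O hO hx (VK.comap e.hom)
    (fun a ↦ (hVK _).mpr ⟨_, (hsq a).symm⟩)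
  have hmem' : ∀ b, ∃ r : R, algebraMap R K r = e.hom ((ev (X.fromSpecResidueField x) U hxU).hom b) :=
    fun b ↦ (hVK _).mp (hmem b)
  have hinj : Function.Injective (algebraMap R K) := IsFractionRing.injective R K
  let σ : K →+* K := RingHom.id K
  let ρ : Γ(X, U) →+* R := (RingEquiv.ofBijective (algebraMap R K).rangeRestrict
      ⟨fun a b h ↦ hinj (congrArg Subtype.val h), (algebraMap R K).rangeRestrict_surjective⟩).symm.toRingHom.comp
    ((e.hom.comp (ev (X.fromSpecResidueField x) U hxU).hom).codRestrict (algebraMap R K).range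
      fun b ↦ hmem' b)
  have hρ : ∀ b, algebraMap R K (ρ b) = e.hom ((ev (X.fromSpecResidueField x) U hxU).hom b) :=
    fun b ↦ congrArg Subtype.val ((RingEquiv.ofBijective (algebraMap R K).rangeRestrict
      ⟨fun a b h ↦ hinj (congrArg Subtype.val h),
        (algebraMap R K).rangeRestrict_surjective⟩).apply_symm_apply _)
  have h1 : Spec.map (CommRingCat.ofHom (algebraMap R K)) ≫ Spec.map (CommRingCat.ofHom ρ) ≫ hU.fromSpec =
      Spec.map e ≫ X.fromSpecResidueField x := by
    conv_rhs => rw [← eq_map_ev_fromSpec (X.fromSpecResidueField x) hU hxU]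
    rw [← Category.assoc, ← Category.assoc, ← Spec.map_comp, ← Spec.map_comp]
    congr 2
    ext b
    exact hρ b
  set l := Spec.map (CommRingCat.ofHom ρ) ≫ hU.fromSpec with hl
  refine ⟨⟨⟨l, h1, ?_⟩⟩⟩
  have hlU : ∀ p, l p ∈ U := mem_of_map_fromSpec hU _
  show l ≫ f = i₂
  rw [← eq_map_ev_fromSpec (l ≫ f) hO (fun p ↦ hUO (hlU p)), ← eq_map_ev_fromSpec i₂ hO hall]
  congr 2
  ext a
  apply hinj
  rw [ev_comp_right f l hUO hlU, ← hsq a, ev_comp_right f (X.fromSpecResidueField x) hUO hxU]
  simp only [CommRingCat.hom_comp, RingHom.comp_apply]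
  rw [ev_map_fromSpec hU]
  exact hρ _

omit [LocallyOfFiniteType f] [QuasiCompact f] [IsLocallyNoetherian Y] in
lemma closure_range_ev_residueField (x : X) {U : X.Opens} (hU : IsAffineOpen U)
    (h : ∀ p, X.fromSpecResidueField x p ∈ U) :
    Subfield.closure (Set.range (ev (X.fromSpecResidueField x) U h).hom) = ⊤ := by
  have hx : x ∈ U := by simpa using h default
  rw [ev_fromSpecResidueField hU x hx, eq_top_iff]
  rintro z -
  obtain ⟨z, rfl⟩ := X.residue_surjective x z
  letI := X.presheaf.algebra_section_stalk ⟨x, hx⟩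
  haveI := hU.isLocalization_stalk ⟨x, hx⟩
  obtain ⟨⟨a, s⟩, has⟩ := IsLocalization.surj (hU.primeIdealOf ⟨x, hx⟩).asIdeal.primeCompl z
  have has' : z * X.presheaf.germ U x hx s.1 = X.presheaf.germ U x hx a := has
  have hs : (X.residue x).hom (X.presheaf.germ U x hx s.1) ≠ 0 :=
    ((IsLocalization.map_units _ s).map (X.residue x).hom).ne_zero
  have := congrArg (X.residue x).hom has'
  rw [map_mul, ← eq_div_iff hs] at this
  rw [this]
  exact div_mem (Subfield.subset_closure ⟨a, rfl⟩) (Subfield.subset_closure ⟨s.1, rfl⟩)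

/-- The existence part of the valuative criterion from discrete valuation rings. -/
theorem existence_of_dvr
    (H : ∀ (A : Type u) [CommRing A] [IsDomain A] [IsDiscreteValuationRing A]
      (x : Spec (CommRingCat.of (FractionRing A)) ⟶ X) (y : Spec (CommRingCat.of A) ⟶ Y),
      x ≫ f = Spec.map (CommRingCat.ofHom (algebraMap A (FractionRing A))) ≫ y →
      ∃ l : Spec (CommRingCat.of A) ⟶ X, l ≫ f = y ∧
        Spec.map (CommRingCat.ofHom (algebraMap A (FractionRing A))) ≫ l = x) :
    ValuativeCriterion.Existence f := by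
  refine existence_of_centers f fun x O hO hx V hV ↦
    exists_center_of_forall_dvr f (L := X.residueField x) _ (fun U hU h ↦ closure_range_ev_residueField x hU h)
      hO hx V hV fun R hR hmem ↦ ?_
  haveI := hR
  obtain ⟨y, hy, hyO⟩ := exists_lift_of_ev_mem R _ hO hx hmem
  let e : X.residueField x →+* FractionRing R :=
    (FractionRing.algEquiv R (X.residueField x)).symm.toRingHom
  have he : e.comp R.subtype = algebraMap R (FractionRing R) := RingHom.ext fun r ↦
    (FractionRing.algEquiv R (X.residueField x)).symm.commutes r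
  have hw : (Spec.map (CommRingCat.ofHom e) ≫ X.fromSpecResidueField x) ≫ f =
      Spec.map (CommRingCat.ofHom (algebraMap R (FractionRing R))) ≫ y := by
    rw [Category.assoc, ← hy, ← Category.assoc, ← Spec.map_comp, ← CommRingCat.ofHom_comp, he]
  obtain ⟨l, hl, hl'⟩ := H R _ y hw
  refine ⟨l, ?_, show (l ≫ f) (closedPoint R) ∈ O from hl.symm ▸ hyO _⟩
  haveI : IsIso (Spec.map (CommRingCat.ofHom e)) := by
    haveI : IsIso (CommRingCat.ofHom e) :=
      (ConcreteCategory.isIso_iff_bijective _).mpr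
        (FractionRing.algEquiv R (X.residueField x)).symm.bijective
    infer_instance
  rw [← cancel_epi (Spec.map (CommRingCat.ofHom e)), ← Category.assoc, ← Spec.map_comp,
    ← CommRingCat.ofHom_comp, he]
  exact hl'

omit [QuasiCompact f] in
/-- Separatedness from uniqueness for discrete valuation rings. -/
theorem isSeparated_of_dvr
    (H : ∀ (A : Type u) [CommRing A] [IsDomain A] [IsDiscreteValuationRing A]
      (g₁ g₂ : Spec (CommRingCat.of A) ⟶ X), g₁ ≫ f = g₂ ≫ f →
      Spec.map (CommRingCat.ofHom (algebraMap A (FractionRing A))) ≫ g₁ =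
        Spec.map (CommRingCat.ofHom (algebraMap A (FractionRing A))) ≫ g₂ → g₁ = g₂) :
    IsSeparated f := by
  haveI : IsLocallyNoetherian X := LocallyOfFiniteType.isLocallyNoetherian f
  haveI : IsLocallyNoetherian (pullback f f) :=
    LocallyOfFiniteType.isLocallyNoetherian (pullback.fst f f)
  haveI : QuasiSeparated f := by
    haveI : QuasiSeparated (f ≫ terminal.from Y) := by
      rw [terminal.hom_ext (f ≫ terminal.from Y) (terminal.from X)]
      infer_instance
    exact QuasiSeparated.of_comp f (terminal.from Y)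
  set W := pullback f f
  refine ⟨IsClosedImmersion.of_isPreimmersion _ ?_⟩
  refine ((isClosedMap_iff_specializingMap (pullback.diagonal f)).mpr ?_).isClosed_range
  intro x z hz
  by_cases hne : z = pullback.diagonal f x
  · exact ⟨x, specializes_rfl, hne.symm⟩
  replace hz : pullback.diagonal f x ⤳ z := hz
  set z' := pullback.diagonal f x with hz'
  let φ : W.presheaf.stalk z ⟶ W.residueField z' :=
    W.presheaf.stalkSpecializes hz ≫ W.residue z'
  have hφ : Spec.map φ ≫ W.fromSpecStalk z = W.fromSpecResidueField z' := by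
    rw [Spec.map_comp, Category.assoc, Scheme.SpecMap_stalkSpecializes_fromSpecStalk]
    rfl
  obtain ⟨O, hO, hzO, -⟩ := exists_isAffineOpen_mem_and_subset (X := W) (x := z) (U := ⊤) trivial
  have hgen : Subfield.closure (Set.range φ.hom ∪ ∅) = ⊤ := by
    have hz'O : z' ∈ O := hz.mem_open O.2 hzO
    have hall : ∀ p, W.fromSpecResidueField z' p ∈ O := fun p ↦ by simpa using hz'O
    rw [eq_top_iff, ← closure_range_ev_residueField z' hO hall, Set.union_empty,
      ev_fromSpecResidueField hO z' hz'O]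
    refine Subfield.closure_mono ?_
    rintro _ ⟨a, rfl⟩
    refine ⟨W.presheaf.germ O z hzO a, ?_⟩
    have h1 : W.presheaf.germ O z hzO ≫ φ = W.presheaf.germ O z' hz'O ≫ W.residue z' :=
      (W.presheaf.germ_stalkSpecializes_assoc _ hz _)
    exact ConcreteCategory.congr_hom h1 a
  have hne' : ∃ a ∈ maximalIdeal (W.presheaf.stalk z), φ.hom a ≠ 0 := by
    by_contra! hcon
    apply hne
    have : Spec.map φ (closedPoint (W.residueField z')) = closedPoint (W.presheaf.stalk z) := by
      refine PrimeSpectrum.ext (le_antisymm (IsLocalRing.le_maximalIdeal ?_) fun a ha ↦ ?_)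
      · exact (Spec.map φ (closedPoint (W.residueField z'))).2.ne_top
      · show φ.hom a ∈ maximalIdeal (W.residueField z')
        rw [hcon a ha]
        exact zero_mem _
    have h2 := congrArg (fun g : Spec (W.residueField z') ⟶ W ↦ g (closedPoint (W.residueField z'))) hφ
    erw [Scheme.Hom.comp_apply, this, Scheme.fromSpecStalk_closedPoint,
      Scheme.fromSpecResidueField_apply] at h2
    exact h2
  obtain ⟨R, hR, hmem, hdom⟩ := exists_dvr_dominating' φ.hom Set.finite_empty hgen hne'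
  haveI := hR
  let h : Spec (CommRingCat.of R) ⟶ W :=
    Spec.map (CommRingCat.ofHom (φ.hom.codRestrict R.toSubring hmem)) ≫ W.fromSpecStalk z
  have hh : Spec.map (CommRingCat.ofHom R.subtype) ≫ h = W.fromSpecResidueField z' := by
    rw [← hφ, ← Category.assoc, ← Spec.map_comp]
    rfl
  let c : Spec (CommRingCat.of R) := closedPoint R
  have hclosed : h c = z := by
    have : Spec.map (CommRingCat.ofHom (φ.hom.codRestrict R.toSubring hmem)) c =
        closedPoint (W.presheaf.stalk z) := by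
      refine PrimeSpectrum.ext (le_antisymm (IsLocalRing.le_maximalIdeal ?_) fun a ha ↦ ?_)
      · exact (Spec.map (CommRingCat.ofHom (φ.hom.codRestrict R.toSubring hmem)) c).2.ne_top
      · exact (R.valuation_lt_one_iff ⟨φ.hom a, hmem a⟩).mpr (hdom a ha)
    show (Spec.map (CommRingCat.ofHom (φ.hom.codRestrict R.toSubring hmem)) ≫ W.fromSpecStalk z) c = z
    rw [Scheme.Hom.comp_apply, this, Scheme.fromSpecStalk_closedPoint]
  have hfs : W.fromSpecResidueField z' ≫ pullback.fst f f =
      W.fromSpecResidueField z' ≫ pullback.snd f f := by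
    have hbij : Function.Bijective ((pullback.diagonal f).residueFieldMap x).hom := by
      refine ⟨RingHom.injective _, fun t ↦ ?_⟩
      obtain ⟨t, rfl⟩ := X.residue_surjective x t
      obtain ⟨u, rfl⟩ := (pullback.diagonal f).stalkMap_surjective x t
      exact ⟨(pullback.diagonalObj f).residue _ u,
        ConcreteCategory.congr_hom (Scheme.residue_residueFieldMap (pullback.diagonal f) x) u⟩
    haveI : IsIso ((pullback.diagonal f).residueFieldMap x) :=
      (ConcreteCategory.isIso_iff_bijective _).mpr hbij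
    have h1 := (pullback.diagonal f).SpecMap_residueFieldMap_fromSpecResidueField x
    refine (cancel_epi (Spec.map ((pullback.diagonal f).residueFieldMap x))).mp ?_
    erw [reassoc_of% h1, reassoc_of% h1]
    simp
  let e : W.residueField z' →+* FractionRing R :=
    (FractionRing.algEquiv R (W.residueField z')).symm.toRingHom
  have he : e.comp R.subtype = algebraMap R (FractionRing R) := RingHom.ext fun r ↦
    (FractionRing.algEquiv R (W.residueField z')).symm.commutes r
  have heq : h ≫ pullback.fst f f = h ≫ pullback.snd f f := by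
    refine H R _ _ (by simp [pullback.condition]) ?_
    have k : Spec.map (CommRingCat.ofHom (algebraMap R (FractionRing R))) ≫ h =
        Spec.map (CommRingCat.ofHom e) ≫ W.fromSpecResidueField z' := by
      rw [← he, CommRingCat.ofHom_comp, Spec.map_comp]
      exact (Category.assoc _ _ _).trans (congrArg (Spec.map (CommRingCat.ofHom e) ≫ ·) hh)
    exact (Category.assoc _ _ _).symm.trans ((congrArg (· ≫ pullback.fst f f) k).trans
      ((Category.assoc _ _ _).trans ((congrArg (Spec.map (CommRingCat.ofHom e) ≫ ·) hfs).trans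
      ((Category.assoc _ _ _).symm.trans ((congrArg (· ≫ pullback.snd f f) k).symm.trans
      (Category.assoc _ _ _))))))
  have hd : h = (h ≫ pullback.fst f f) ≫ pullback.diagonal f :=
    pullback.hom_ext (by simp) (by simp [heq])
  have hz2 : pullback.diagonal f ((h ≫ pullback.fst f f) c) = z := by
    rw [← Scheme.Hom.comp_apply, ← hd, hclosed]
  refine ⟨(h ≫ pullback.fst f f) c, ?_, hz2⟩
  show x ⤳ _
  rw [← (pullback.diagonal f).isEmbedding.isInducing.specializes_iff, hz2]
  exact hz

end Groth.Agent.DVRCrit
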